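import Mathlib.CategoryTheory.Monoidal.Tor
import Mathlib.Algebra.Category.ModuleCat.Monoidal.Closed
import Mathlib.Algebra.Category.ModuleCat.Projective
import Mathlib.Algebra.Category.ModuleCat.Abelian
import Mathlib.Algebra.Homology.HomologySequence
import Mathlib.Algebra.Homology.HomologicalComplexAbelian
import Mathlib.Algebra.Homology.ShortComplex.ModuleCat
import Mathlib.CategoryTheory.Abelian.Projective.Resolution

/-!
# The horseshoe lemma for projective resolutions of modules, and the long exact sequence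
-/

set_option backward.isDefEq.respectTransparency false
set_option backward.isDefEq.respectTransparency.types false

universe u

open CategoryTheory CategoryTheory.Limits

namespace TorLESLib

variable {A : Type u} [CommRing A]

section Res

variable {Z : ModuleCat.{u} A} (P : ProjectiveResolution Z)

/-- The differential of a projective resolution. -/
noncomputable abbrev dd (n : ℕ) : P.complex.X (n + 1) →ₗ[A] P.complex.X n :=
  (P.complex.d (n + 1) n).hom

/-- The augmentation of a projective resolution. -/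
noncomputable abbrev aug : P.complex.X 0 →ₗ[A] Z :=
  (P.π.f 0).hom

lemma dd_dd (n : ℕ) (x : P.complex.X (n + 2)) : dd P n (dd P (n + 1) x) = 0 :=
  ConcreteCategory.congr_hom (P.complex.d_comp_d (n + 2) (n + 1) n) x

lemma exact_dd (n : ℕ) : Function.Exact (dd P (n + 1)) (dd P n) :=
  (ShortComplex.ShortExact.moduleCat_exact_iff_function_exact _).1 (P.exact_succ n)

lemma exact_aug : Function.Exact (dd P 0) (aug P) :=
  (ShortComplex.ShortExact.moduleCat_exact_iff_function_exact _).1 P.exact₀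

lemma aug_surjective : Function.Surjective (aug P) :=
  (ModuleCat.epi_iff_surjective (P.π.f 0)).1 inferInstance

lemma projective_X (n : ℕ) : Module.Projective A (P.complex.X n) :=
  (IsProjective.iff_projective _).2 (P.projective n)

/-- Lifting through a differential. -/
lemma exists_lift {M N : Type u} [AddCommGroup M] [Module A M] [AddCommGroup N] [Module A N]
    {Q : Type u} [AddCommGroup Q] [Module A Q] [Module.Projective A Q]
    (d : M →ₗ[A] N) (φ : Q →ₗ[A] N) (h : ∀ x, ∃ y, d y = φ x) : ∃ ψ : Q →ₗ[A] M, ∀ x, d (ψ x) = φ x := by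
  obtain ⟨ψ, hψ⟩ := Module.projective_lifting_property d.rangeRestrict
    (φ.codRestrict (LinearMap.range d) h) d.surjective_rangeRestrict
  exact ⟨ψ, fun x => congrArg Subtype.val (LinearMap.congr_fun hψ x)⟩

end Res

variable {S : ShortComplex (ModuleCat.{u} A)}

/-- The horseshoe lemma. -/
theorem exists_horseshoe (hS : S.ShortExact) (P₁ : ProjectiveResolution S.X₁)
    (P₃ : ProjectiveResolution S.X₃) :
    ∃ (P₂ : ProjectiveResolution S.X₂) (f : P₁.complex ⟶ P₂.complex) (g : P₂.complex ⟶ P₃.complex)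
      (w : f ≫ g = 0), f.f 0 ≫ P₂.π.f 0 = P₁.π.f 0 ≫ S.f ∧ g.f 0 ≫ P₃.π.f 0 = P₂.π.f 0 ≫ S.g ∧
      ∀ n, Nonempty ((ShortComplex.mk f g w).map (HomologicalComplex.eval _ _ n)).Splitting := by
  have hex : Function.Exact S.f.hom S.g.hom :=
    (ShortComplex.ShortExact.moduleCat_exact_iff_function_exact _).1 hS.exact
  have hfi : Function.Injective S.f.hom := hS.moduleCat_injective_f
  have hgs : Function.Surjective S.g.hom := hS.moduleCat_surjective_g
  haveI := projective_X P₁
  haveI := projective_X P₃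
  obtain ⟨η, hη'⟩ := Module.projective_lifting_property S.g.hom (aug P₃) hgs
  have hη : ∀ c, S.g.hom (η c) = aug P₃ c := LinearMap.congr_fun hη'
  let T : ℕ → Type u := fun n => {τ : P₃.complex.X (n + 1) →ₗ[A] P₁.complex.X n //
    ∀ x, ∃ y, dd P₁ n y = τ (dd P₃ (n + 1) x)}
  have h0 : ∃ t : T 0, ∀ c, S.f.hom (aug P₁ (t.1 c)) = -η (dd P₃ 0 c) := by
    obtain ⟨t, ht⟩ := exists_lift (S.f.hom.comp (aug P₁)) (-(η.comp (dd P₃ 0))) (fun c => by
      obtain ⟨y, hy⟩ := (hex (η (dd P₃ 0 c))).1 (by
        rw [hη]; exact (exact_aug P₃).apply_apply_eq_zero c)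
      obtain ⟨a, ha⟩ := aug_surjective P₁ y
      exact ⟨-a, by simp [ha, hy]⟩)
    refine ⟨⟨t, fun x => (exact_aug P₁ _).1 (hfi ?_)⟩, ht⟩
    rw [map_zero]
    refine (ht _).trans ?_
    simp [dd_dd]
  have hstep : ∀ n (t : T n), ∃ s : T (n + 1),
      ∀ c, dd P₁ n (s.1 c) = -t.1 (dd P₃ (n + 1) c) := fun n t => by
    obtain ⟨s, hs⟩ := exists_lift (dd P₁ n) (-(t.1.comp (dd P₃ (n + 1)))) (fun c => by
      obtain ⟨y, hy⟩ := t.2 c
      exact ⟨-y, by simp [hy]⟩)
    refine ⟨⟨s, fun x => (exact_dd P₁ n _).1 ?_⟩, hs⟩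
    refine (hs _).trans ?_
    simp [dd_dd]
  obtain ⟨t₀, ht₀⟩ := h0
  choose nx hnx using hstep
  let τ : ∀ n, T n := fun n => Nat.rec t₀ nx n
  have hτ : ∀ n c, dd P₁ n ((τ (n + 1)).1 c) = -(τ n).1 (dd P₃ (n + 1) c) := fun n => hnx n (τ n)
  have ht : ∀ c, S.f.hom (aug P₁ ((τ 0).1 c)) = -η (dd P₃ 0 c) := ht₀
  let X₂ : ℕ → ModuleCat.{u} A := fun n => ModuleCat.of A (P₁.complex.X n × P₃.complex.X n)
  let d₂ : ∀ n, X₂ (n + 1) ⟶ X₂ n := fun n => ModuleCat.ofHom
    (((dd P₁ n).coprod (τ n).1).prod ((dd P₃ n).comp (LinearMap.snd A _ _)))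
  have hsq : ∀ n, d₂ (n + 1) ≫ d₂ n = 0 := fun n => by
    apply ModuleCat.hom_ext
    refine LinearMap.ext ?_
    rintro ⟨a, c⟩
    show (dd P₁ n (dd P₁ (n + 1) a + (τ (n + 1)).1 c) + (τ n).1 (dd P₃ (n + 1) c),
      dd P₃ n (dd P₃ (n + 1) c)) = (0 : _ × _)
    rw [map_add, dd_dd, hτ, dd_dd, zero_add, neg_add_cancel]
    rfl
  let C := ChainComplex.of X₂ d₂ hsq
  have hd : ∀ n, C.d (n + 1) n = d₂ n := fun n => ChainComplex.of_d X₂ d₂ n
  let ε : X₂ 0 ⟶ S.X₂ := ModuleCat.ofHom ((S.f.hom.comp (aug P₁)).coprod η)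
  have hdε : C.d 1 0 ≫ ε = 0 := by
    rw [hd 0]
    apply ModuleCat.hom_ext
    refine LinearMap.ext ?_
    rintro ⟨a, c⟩
    show S.f.hom (aug P₁ (dd P₁ 0 a + (τ 0).1 c)) + η (dd P₃ 0 c) = 0
    rw [map_add, (exact_aug P₁).apply_apply_eq_zero a, zero_add, ht, neg_add_cancel]
  have hexd : ∀ n, Function.Exact (d₂ (n + 1)).hom (d₂ n).hom := by
    intro n
    rintro ⟨a, c⟩
    constructor
    · intro h
      have h1 : dd P₁ n a + (τ n).1 c = 0 := congrArg Prod.fst h
      obtain ⟨c', rfl⟩ := (exact_dd P₃ n c).1 (congrArg Prod.snd h)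
      obtain ⟨a', ha'⟩ := (exact_dd P₁ n (a - (τ (n + 1)).1 c')).1 (by
        rw [map_sub, hτ, sub_neg_eq_add, h1])
      refine ⟨(a', c'), ?_⟩
      show (dd P₁ (n + 1) a' + (τ (n + 1)).1 c', dd P₃ (n + 1) c') = _
      rw [ha', sub_add_cancel]
    · rintro ⟨x, hx⟩
      rw [← hx]
      exact ConcreteCategory.congr_hom (hsq n) x
  have hexε : Function.Exact (d₂ 0).hom ε.hom := by
    rintro ⟨a, c⟩
    constructor
    · intro h
      change S.f.hom (aug P₁ a) + η c = 0 at h
      obtain ⟨c', rfl⟩ := (exact_aug P₃ c).1 (by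
        have := congrArg S.g.hom h
        rwa [map_add, hex.apply_apply_eq_zero, zero_add, hη, map_zero] at this)
      obtain ⟨a', ha'⟩ := (exact_aug P₁ (a - (τ 0).1 c')).1 (hfi (by
        rw [map_sub, map_sub, ht, sub_neg_eq_add, h, map_zero]))
      refine ⟨(a', c'), ?_⟩
      show (dd P₁ 0 a' + (τ 0).1 c', dd P₃ 0 c') = _
      rw [ha', sub_add_cancel]
    · rintro ⟨x, hx⟩
      rw [← hx]
      have := ConcreteCategory.congr_hom hdε x
      rwa [hd 0] at this
  have hεs : Function.Surjective ε.hom := fun x => by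
    obtain ⟨c, hc⟩ := aug_surjective P₃ (S.g.hom x)
    obtain ⟨y, hy⟩ := (hex (x - η c)).1 (by rw [map_sub, hη, hc, sub_self])
    obtain ⟨a, ha⟩ := aug_surjective P₁ y
    refine ⟨(a, c), ?_⟩
    show S.f.hom (aug P₁ a) + η c = x
    rw [ha, hy, sub_add_cancel]
  haveI hproj : ∀ n, Projective (C.X n) := fun n =>
    (IsProjective.iff_projective (P₁.complex.X n × P₃.complex.X n)).1 inferInstance
  let P₂ : ProjectiveResolution S.X₂ :=
    { complex := C
      π := (ChainComplex.toSingle₀Equiv _ _).symm ⟨ε, hdε⟩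
      quasiIso := ⟨fun n => by
        cases n with
        | zero =>
          rw [ChainComplex.quasiIsoAt₀_iff, ShortComplex.quasiIso_iff_of_zeros']
          · refine (ShortComplex.exact_and_epi_g_iff_of_iso
              (S₂ := ShortComplex.mk (d₂ 0) ε (hd 0 ▸ hdε)) ?_).2
              ⟨(ShortComplex.ShortExact.moduleCat_exact_iff_function_exact _).2 hexε,
                (ModuleCat.epi_iff_surjective _).2 hεs⟩
            exact ShortComplex.isoMk (Iso.refl _) (Iso.refl _) (Iso.refl _)
              (by simp [hd 0]) (by simp)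
          all_goals rfl
        | succ n =>
          rw [quasiIsoAt_iff_exactAt' _ _ (ChainComplex.exactAt_succ_single_obj _ _),
            HomologicalComplex.exactAt_iff' C (n + 2) (n + 1) n (by simp) (by simp),
            ShortComplex.ShortExact.moduleCat_exact_iff_function_exact]
          show Function.Exact (C.d (n + 2) (n + 1)).hom (C.d (n + 1) n).hom
          rw [hd, hd]
          exact hexd n⟩ }
  let f : P₁.complex ⟶ C :=
    { f := fun n => ModuleCat.ofHom (LinearMap.inl A _ _)
      comm' := by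
        rintro _ n rfl
        rw [hd]
        apply ModuleCat.hom_ext
        refine LinearMap.ext fun a => ?_
        show (dd P₁ n a + (τ n).1 0, dd P₃ n 0) = (dd P₁ n a, 0)
        rw [map_zero, map_zero, add_zero] }
  let g : C ⟶ P₃.complex :=
    { f := fun n => ModuleCat.ofHom (LinearMap.snd A _ _)
      comm' := by
        rintro _ n rfl
        rw [hd]
        rfl }
  have w : f ≫ g = 0 := by
    ext n x
    rfl
  have hπ : P₂.π.f 0 = ε := ChainComplex.toSingle₀Equiv_symm_apply_f_zero (C := C) ε hdε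
  refine ⟨P₂, f, g, w, ?_, ?_, fun n => ⟨?_⟩⟩
  · rw [hπ]
    apply ModuleCat.hom_ext
    refine LinearMap.ext fun a => ?_
    show S.f.hom (aug P₁ a) + η 0 = S.f.hom (aug P₁ a)
    rw [map_zero, add_zero]
  · rw [hπ]
    apply ModuleCat.hom_ext
    refine LinearMap.ext ?_
    rintro ⟨a, c⟩
    show aug P₃ c = S.g.hom (S.f.hom (aug P₁ a) + η c)
    rw [map_add, hex.apply_apply_eq_zero, zero_add, hη]
  · exact
      { r := ModuleCat.ofHom (LinearMap.fst A _ _)
        s := ModuleCat.ofHom (LinearMap.inr A _ _)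
        f_r := by rfl
        s_g := by rfl
        id := by
          apply ModuleCat.hom_ext
          refine LinearMap.ext ?_
          rintro ⟨a, c⟩
          show ((a, 0) : _ × _) + (0, c) = (a, c)
          simp }

/-- The long exact sequence of a left derived functor. -/
theorem exists_les {D : Type*} [Category D] [Abelian D] (F : ModuleCat.{u} A ⥤ D) [F.Additive]
    (hS : S.ShortExact) (i : ℕ) :
    (∃ w₀ : (F.leftDerived i).map S.f ≫ (F.leftDerived i).map S.g = 0,
        (ShortComplex.mk _ _ w₀).Exact) ∧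
      Epi ((F.leftDerived 0).map S.g) ∧
      ∃ (δ : (F.leftDerived (i + 1)).obj S.X₃ ⟶ (F.leftDerived i).obj S.X₁)
        (w₁ : (F.leftDerived (i + 1)).map S.g ≫ δ = 0)
        (w₂ : δ ≫ (F.leftDerived i).map S.f = 0),
        (ShortComplex.mk _ _ w₁).Exact ∧ (ShortComplex.mk _ _ w₂).Exact := by
  let P₁ := projectiveResolution S.X₁
  let P₃ := projectiveResolution S.X₃
  obtain ⟨P₂, f, g, w, hf, hg, hspl⟩ := exists_horseshoe hS P₁ P₃
  let SS : ShortComplex (HomologicalComplex D (ComplexShape.down ℕ)) :=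
    (ShortComplex.mk f g w).map (F.mapHomologicalComplex (ComplexShape.down ℕ))
  have hSS : SS.ShortExact := by
    refine HomologicalComplex.shortExact_of_degreewise_shortExact _ fun n => ?_
    exact ((hspl n).some.map F).shortExact
  have nf : ∀ j, (F.leftDerived j).map S.f =
      (P₁.isoLeftDerivedObj F j).hom ≫ HomologicalComplex.homologyMap SS.f j ≫
        (P₂.isoLeftDerivedObj F j).inv := fun j => by
    have h := ProjectiveResolution.isoLeftDerivedObj_hom_naturality S.f P₁ P₂ f hf F j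
    exact ((Iso.eq_comp_inv _).2 h).trans (Category.assoc _ _ _)
  have ng : ∀ j, (F.leftDerived j).map S.g =
      (P₂.isoLeftDerivedObj F j).hom ≫ HomologicalComplex.homologyMap SS.g j ≫
        (P₃.isoLeftDerivedObj F j).inv := fun j => by
    have h := ProjectiveResolution.isoLeftDerivedObj_hom_naturality S.g P₂ P₃ g hg F j
    exact ((Iso.eq_comp_inv _).2 h).trans (Category.assoc _ _ _)
  refine ⟨⟨?_, ?_⟩, ?_, ?_⟩
  · simp only [nf, ng, Category.assoc, Iso.inv_hom_id_assoc]
    rw [← HomologicalComplex.homologyMap_comp_assoc, SS.zero, HomologicalComplex.homologyMap_zero]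
    simp
  · exact (ShortComplex.exact_iff_of_iso (ShortComplex.isoMk (P₁.isoLeftDerivedObj F i)
      (P₂.isoLeftDerivedObj F i) (P₃.isoLeftDerivedObj F i)
      (by simp [nf]) (by simp [ng]))).2 (hSS.homology_exact₂ i)
  · rw [ng 0]
    haveI := hSS.epi_g
    haveI : Epi (HomologicalComplex.homologyMap SS.g 0) := by
      haveI : Epi (SS.g.f 0) := inferInstance
      haveI := ChainComplex.isIso_homologyι₀ SS.X₂
      haveI := ChainComplex.isIso_homologyι₀ SS.X₃
      have e := HomologicalComplex.homologyι_naturality SS.g 0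
      haveI : Epi (HomologicalComplex.homologyι SS.X₂ 0 ≫ HomologicalComplex.opcyclesMap SS.g 0) :=
        inferInstance
      rw [← e] at this
      exact (epi_comp_iff_of_isIso _ (HomologicalComplex.homologyι SS.X₃ 0)).1 this
    infer_instance
  · refine ⟨(P₃.isoLeftDerivedObj F (i + 1)).hom ≫ hSS.δ (i + 1) i rfl ≫
      (P₁.isoLeftDerivedObj F i).inv, ?_, ?_, ?_, ?_⟩
    · simp only [ng, Category.assoc, Iso.inv_hom_id_assoc]
      rw [reassoc_of% (hSS.comp_δ (i + 1) i rfl)]
      simp
    · simp only [nf, Category.assoc, Iso.inv_hom_id_assoc]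
      rw [reassoc_of% (hSS.δ_comp (i + 1) i rfl)]
      simp
    · exact (ShortComplex.exact_iff_of_iso (ShortComplex.isoMk (P₂.isoLeftDerivedObj F (i + 1))
        (P₃.isoLeftDerivedObj F (i + 1)) (P₁.isoLeftDerivedObj F i)
        (by simp [ng]) (by simp))).2 (hSS.homology_exact₃ (i + 1) i rfl)
    · exact (ShortComplex.exact_iff_of_iso (ShortComplex.isoMk (P₃.isoLeftDerivedObj F (i + 1))
        (P₁.isoLeftDerivedObj F i) (P₂.isoLeftDerivedObj F i)
        (by simp) (by simp [nf]))).2 (hSS.homology_exact₁ (i + 1) i rfl)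

end TorLESLib
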